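import Cfsg.Agent.H0.YU33.D
set_option maxRecDepth 100000
set_option Elab.async false
set_option linter.unusedSectionVars false
namespace H0.YU33
open H0 BN 
open H0.MU33 (R)
universe u
variable {G : Type u} [Group G] [Finite G] (m0 : Model G) (h0 : m0.R = R) (hb : m0.pst [2, 1, 0] = ⊥) (hc : Nat.card G = 6048)
include h0 hb hc
theorem base : m0.pst [2, 1, 0] = ⊥ := hb
omit hb hc in
theorem ch_ok : m0.ChainOK ch [] := (m0.chain_cons [0, 1, 0, 1, 0, 1, 1, 0, 1, 0] (Model.via _ h0 (fun R => Model.fixP R [] [[0], [1]]) c4) (Model.via _ h0 (fun R => Model.growP R [[0], [1]] [0, 1, 0, 1, 0, 1, 1, 0, 1, 0] 0 28) c5) (m0.chain_cons [0, 1, 0, 1, 0, 1, 1, 0, 1, 0, 1] (Model.via _ h0 (fun R => Model.fixP R [0] [[3], [4]]) c2) (Model.via _ h0 (fun R => Model.growP R [[3], [4]] [0, 1, 0, 1, 0, 1, 1, 0, 1, 0, 1] 1 27) c3) (m0.chain_cons [0, 0, 0, 0, 0, 0, 0] (Model.via _ h0 (fun R => Model.fixP R [1,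 0] [[6]]) c0) (Model.via _ h0 (fun R => Model.growP R [[6]] [0, 0, 0, 0, 0, 0, 0] 2 8) c1) (m0.chain_nil _))))
theorem E3 : m0.Enum (nat_lit 28) (nat_lit 5) [2, 1, 0] L3 := m0.enum_base (base m0 h0 hb hc) (by decide +kernel)
theorem I2 : m0.Inv (m0.pst [1, 0]) 1020 := ((m0.chain_pst (ch_ok m0 h0) (hc.trans (by decide +kernel)) 2).symm ▸ m0.inv_of_invB (Model.via _ h0 (fun R => Model.invB R (Model.cgens (ch.drop 2)) 1020) c6) :)
theorem F2 : m0.Enum2 (nat_lit 28) (nat_lit 5) [1, 0] T2 L3 := m0.enum_step (I2 m0 h0 hb hc) (Model.via _ h0 (fun R => levB R (nat_lit 28) (nat_lit 5) [1, 0] 2 1020 0xdeb38bdab49ca307b9ac5a928398a418820 [([6], 0xd6ef3b5338955ed73170544442a50331c20)] p2 T2) c7) (E3 m0 h0 hb hc)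
theorem E2 : m0.Enum (nat_lit 28) (nat_lit 5) [1, 0] L2 := (F2 m0 h0 hb hc).enum (eq_of_beq c8)
theorem I1 : m0.Inv (m0.pst [0]) 268435454 := ((m0.chain_pst (ch_ok m0 h0) (hc.trans (by decide +kernel)) 1).symm ▸ m0.inv_of_invB (Model.via _ h0 (fun R => Model.invB R (Model.cgens (ch.drop 1)) 268435454) c9) :)
theorem F1 : m0.Enum2 (nat_lit 28) (nat_lit 5) [0] T1 L2 := m0.enum_step (I1 m0 h0 hb hc) (Model.via _ h0 (fun R => levB R (nat_lit 28) (nat_lit 5) [0] 1 268435454 0xdeb38bdab49ca307b9ac5a928398a418820 [([3], 0xcb77889a45456e97ab4223a130da8b1b0e0), ([4], 0xc0c4cbcc278a33b952aa2bac68116d4e9e0)] p1 T1) c10) (E2 m0 h0 hb hc)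
theorem reps : m0.Reps (nat_lit 28) (nat_lit 5) (X.map (·.1.2)) :=
  m0.reps_of (m0.lt_of_inv ((m0.chain_top (ch_ok m0 h0) (hc.trans (by decide +kernel))) ▸ m0.inv_of_invB (Model.via _ h0 (fun R => Model.invB R (Model.cgens ch) (2 ^ 28 - 1)) c12) :) (by decide)) [[3], [4]] (Model.via _ h0 (fun R => Model.repB R (nat_lit 28) (nat_lit 5) 28 [[3], [4]] X) c11)
omit h0 hb hc in
theorem sl : Model.SpecLe (nat_lit 28) (nat_lit 5) (nat_lit 12) (nat_lit 4574) [2, 1, 0] (X.map (·.1.2)) U0 L2 := (Model.specLe_of c13)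
theorem spec : Set.range (orderOf : G → ℕ) = {d | d ∈ [1, 2, 3, 4, 6, 7, 8, 12]} :=
  m0.spec_eq (base m0 h0 hb hc) (m0.spec_le (base m0 h0 hb hc) (by decide) (reps m0 h0 hb hc) (F1 m0 h0 hb hc) sl) (Model.via _ h0 (fun R => H6.allL (ordB R [2, 1, 0]) E) c14) (K := 13) (by decide +kernel)
end H0.YU33
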